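import Groth.Agent.Lib.LimDescend.FgAlg
import Groth.Agent.Lib.Neutral.SetRep
import Groth.Agent.Lib.ConsLim.LimTop
import Mathlib.CategoryTheory.Comma.Over.Basic

/-!
# Finite presentation is detected by directed colimits
-/

set_option autoImplicit false
set_option backward.isDefEq.respectTransparency false
universe u

open CategoryTheory Limits AlgebraicGeometry Opposite

noncomputable section

namespace GrothLib.FPCrit

/-- A cocone under `A` over a nonempty directed diagram is a colimit if it is one of rings. -/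
def isColimitUnder {A : CommRingCat.{u}} {J : Type u} [Preorder J] (j₀ : J) (F : J ⥤ Under A)
    (c : Cocone F) (hc : IsColimit ((Under.forget A).mapCocone c)) : IsColimit c where
  desc s := Under.homMk (hc.desc ((Under.forget A).mapCocone s)) (by
    have h := hc.fac ((Under.forget A).mapCocone s) j₀
    have h1 := Under.w (c.ι.app j₀)
    have h2 := Under.w (s.ι.app j₀)
    simp only [Functor.mapCocone_ι_app] at h
    change (c.ι.app j₀).right ≫ _ = (s.ι.app j₀).right at h
    erw [← h1, Category.assoc, h]
    exact h2)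
  fac s j := Under.UnderMorphism.ext (hc.fac ((Under.forget A).mapCocone s) j)
  uniq s m hm := Under.UnderMorphism.ext (hc.uniq ((Under.forget A).mapCocone s) m.right
    fun j => congrArg (fun φ => φ.right) (hm j))

/-- A cone over `S` over a nonempty directed diagram is a limit if it is one of schemes. -/
def isLimitOver {C : Type*} [Category C] {S : C} {J : Type*} [Category J] (j₀ : J) (F : J ⥤ Over S)
    (c : Cone F) (hc : IsLimit ((Over.forget S).mapCone c)) : IsLimit c where
  lift s := Over.homMk (hc.lift ((Over.forget S).mapCone s)) (by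
    have h := hc.fac ((Over.forget S).mapCone s) j₀
    have h1 := Over.w (c.π.app j₀)
    have h2 := Over.w (s.π.app j₀)
    change _ ≫ (c.π.app j₀).left = (s.π.app j₀).left at h
    erw [← h1, reassoc_of% h]
    exact h2)
  fac s j := Over.OverMorphism.ext (hc.fac ((Over.forget S).mapCone s) j)
  uniq s m hm := Over.OverMorphism.ext (hc.uniq ((Over.forget S).mapCone s) m.left
    fun j => congrArg (fun φ => φ.left) (hm j))

variable {A B : CommRingCat.{u}} (f : A ⟶ B)

/-- Every map to a directed colimit factors through a stage. -/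
def Lifts : Prop :=
  ∀ (J : Type u) [Preorder J] [IsDirected J (· ≤ ·)] [Nonempty J] (F : J ⥤ Under A) (c : Cocone F),
    IsColimit c → IsColimit ((Under.forget A).mapCocone c) → ∀ g : Under.mk f ⟶ c.pt,
      ∃ (j : J) (gj : Under.mk f ⟶ F.obj j), gj ≫ c.ι.app j = g

open GrothLib.LimDescend.Rel

section

variable {A B : Type u} [CommRing A] [CommRing B] [Algebra A B]

variable (A B) in
/-- The finitely generated subalgebras as objects under the base. -/
def fgUnder : FgSub A B ⥤ Under (CommRingCat.of A) where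
  obj S := Under.mk (CommRingCat.ofHom (algebraMap A S.1))
  map h := Under.homMk ((fgFunctor A B).map h) rfl
  map_id S := rfl
  map_comp f g := rfl

variable (A B) in
/-- The inclusions, under the base. -/
def fgUnderCocone : Cocone (fgUnder A B) where
  pt := Under.mk (CommRingCat.ofHom (algebraMap A B))
  ι := { app := fun S => Under.homMk ((fgCocone A B).ι.app S) rfl
         naturality := fun S T h => Under.UnderMorphism.ext ((fgCocone A B).ι.naturality h) }

theorem finiteType_of_lifts (h : Lifts (CommRingCat.ofHom (algebraMap A B))) :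
    Algebra.FiniteType A B := by
  let hc : IsColimit ((Under.forget (CommRingCat.of A)).mapCocone (fgUnderCocone A B)) :=
    isColimitFgCocone A B
  obtain ⟨S, g, hg⟩ := h (FgSub A B) (fgUnder A B) (fgUnderCocone A B)
    (isColimitUnder (Classical.arbitrary _) _ _ hc) hc (𝟙 _)
  have hS : S.1 = ⊤ := top_le_iff.mp fun b _ => by
    have h2 : g.right ≫ _ = _ := congrArg CommaMorphism.right hg
    obtain ⟨y, hy⟩ : ∃ y : S.1, (y : B) = b := ⟨g.right b, congr($h2 b)⟩
    exact hy ▸ y.2
  exact ⟨hS ▸ S.2⟩

variable {P : Type u} [CommRing P] [Algebra A P] (π : P →ₐ[A] B)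

/-- The finitely generated ideals in the kernel of a presentation. -/
abbrev FgKer : Type u := {J : Ideal P // J.FG ∧ J ≤ RingHom.ker π}

instance : IsDirected (FgKer π) (· ≤ ·) :=
  ⟨fun S T => ⟨⟨S.1 ⊔ T.1, Submodule.FG.sup S.2.1 T.2.1, sup_le S.2.2 T.2.2⟩,
    le_sup_left (b := T.1), le_sup_right (a := S.1)⟩⟩

instance : Nonempty (FgKer π) := ⟨⟨⊥, Submodule.fg_bot, bot_le⟩⟩

/-- The quotients by finitely generated ideals in the kernel, under the base. -/
def kerUnder : FgKer π ⥤ Under (CommRingCat.of A) where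
  obj J := Under.mk (CommRingCat.ofHom (algebraMap A (P ⧸ J.1)))
  map {J K} h := Under.homMk (CommRingCat.ofHom (Ideal.Quotient.factor (leOfHom h : J.1 ≤ K.1))) rfl
  map_id J := Under.UnderMorphism.ext (CommRingCat.hom_ext (Ideal.Quotient.ringHom_ext rfl))
  map_comp f g := Under.UnderMorphism.ext (CommRingCat.hom_ext (Ideal.Quotient.ringHom_ext rfl))

/-- The projections to the ring, under the base. -/
def kerCocone : Cocone (kerUnder π) where
  pt := Under.mk (CommRingCat.ofHom (algebraMap A B))
  ι := { app := fun J => Under.homMk (CommRingCat.ofHom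
          (Ideal.Quotient.lift J.1 π.toRingHom (fun x hx => J.2.2 hx)))
          (CommRingCat.hom_ext (RingHom.ext fun a => π.commutes a))
         naturality := fun J K h =>
          Under.UnderMorphism.ext (CommRingCat.hom_ext (Ideal.Quotient.ringHom_ext rfl)) }

/-- The ring is the colimit of these quotients. -/
def isColimitKerCocone (hπ : Function.Surjective π) :
    IsColimit ((Under.forget (CommRingCat.of A)).mapCocone (kerCocone π)) := by
  let G := kerUnder π ⋙ Under.forget (CommRingCat.of A)
  haveI := reflectsColimit_of_reflectsIsomorphisms G (forget CommRingCat)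
  refine isColimitOfReflects (forget CommRingCat) (Types.FilteredColimit.isColimitOf _ _ (fun b => ?_) ?_)
  · obtain ⟨x, rfl⟩ := hπ b
    exact ⟨⟨⊥, Submodule.fg_bot, bot_le⟩, Ideal.Quotient.mk _ x, rfl⟩
  · intro J K x y h
    obtain ⟨x, rfl⟩ := Ideal.Quotient.mk_surjective x
    obtain ⟨y, rfl⟩ := Ideal.Quotient.mk_surjective y
    have hxy : x - y ∈ RingHom.ker π := (RingHom.sub_mem_ker_iff _).mpr h
    let L : FgKer π := ⟨J.1 ⊔ K.1 ⊔ Ideal.span {x - y},
      Submodule.FG.sup (Submodule.FG.sup J.2.1 K.2.1) (Submodule.fg_span_singleton _),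
      sup_le (sup_le J.2.2 K.2.2) ((Ideal.span_singleton_le_iff_mem _).mpr hxy)⟩
    refine ⟨L, homOfLE (show J.1 ≤ L.1 from le_sup_of_le_left le_sup_left),
      homOfLE (show K.1 ≤ L.1 from le_sup_of_le_left le_sup_right), ?_⟩
    exact Ideal.Quotient.eq.mpr (Ideal.mem_sup_right (Ideal.mem_span_singleton_self _))

theorem finitePresentation_of_lifts (h : Lifts (CommRingCat.ofHom (algebraMap A B))) :
    Algebra.FinitePresentation A B := by
  obtain ⟨n, π, hπ⟩ := Algebra.FiniteType.iff_quotient_mvPolynomial''.mp (finiteType_of_lifts h)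
  obtain ⟨J, g, hg⟩ := h (FgKer π) (kerUnder π) (kerCocone π)
    (isColimitUnder (Classical.arbitrary _) _ _ (isColimitKerCocone π hπ)) (isColimitKerCocone π hπ) (𝟙 _)
  haveI : Algebra.FinitePresentation A (MvPolynomial (Fin n) A ⧸ J.1) :=
    Algebra.FinitePresentation.quotient J.2.1
  refine GrothLib.Neutral.finitePresentation_of_retract (Ideal.Quotient.liftₐ J.1 π (fun x hx => J.2.2 hx))
    { g.right.hom with commutes' := fun a => congr($(Under.w g) a) } (AlgHom.ext fun b => ?_)
  have h1 : g.right ≫ _ = _ := congrArg CommaMorphism.right hg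
  exact congr($h1 b)

end

theorem finitePresentation_of_lifts' {A B : CommRingCat.{u}} (f : A ⟶ B) (h : Lifts f) :
    f.hom.FinitePresentation := by
  algebraize [f.hom]
  exact finitePresentation_of_lifts h

open TopologicalSpace in
/-- Local finite presentation from lifting along limits of affine schemes over an affine open. -/
theorem locallyOfFinitePresentation_of_lifts {X S : Scheme.{u}} (f : X ⟶ S)
    (h : ∀ (U : S.Opens) (hU : IsAffineOpen U) (J : Type u) [Preorder J] [IsDirected J (· ≤ ·)] [Nonempty J]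
      (F : J ⥤ Under Γ(S, U)) (c : Cocone F) (_ : IsColimit ((Under.forget _).mapCocone c))
      (G : Spec c.pt.right ⟶ X), G ≫ f = Spec.map c.pt.hom ≫ hU.fromSpec →
        ∃ (j : J) (gj : Spec (F.obj j).right ⟶ X), gj ≫ f = Spec.map (F.obj j).hom ≫ hU.fromSpec ∧
          Spec.map (c.ι.app j).right ≫ gj = G) :
    LocallyOfFinitePresentation f := by
  refine ⟨fun {U} hU {V} hV e => finitePresentation_of_lifts' _ fun J _ _ _ F c _ hc g => ?_⟩
  let φ := f.appLE U V e
  have hG : (Spec.map g.right ≫ hV.fromSpec) ≫ f = Spec.map c.pt.hom ≫ hU.fromSpec := by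
    rw [Category.assoc, ← IsAffineOpen.SpecMap_appLE_fromSpec f hU hV e, ← Category.assoc, ← Spec.map_comp]
    congr 2
    exact Under.w g
  obtain ⟨j, gj, hgj, hG'⟩ := h U hU J F c hc _ hG
  let D : Jᵒᵖ ⥤ Scheme.{u} := (F ⋙ Under.forget _).op ⋙ Scheme.Spec
  let cD : Cone D := Scheme.Spec.mapCone ((Under.forget _).mapCocone c).op
  let hcD : IsLimit cD := isLimitOfPreserves Scheme.Spec hc.op
  haveI : ∀ (a b : Jᵒᵖ) (ψ : a ⟶ b), IsAffineHom (D.map ψ) := fun a b ψ =>
    inferInstanceAs (IsAffineHom (Spec.map _))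
  haveI : CompactSpace (D.obj (op j)) := inferInstanceAs (CompactSpace (Spec (F.obj j).right))
  obtain ⟨k, ψ, hk⟩ := ConsLim.exists_stage_eq_top D cD hcD (op j)
    (V := ((gj ⁻¹ᵁ V : (Spec (F.obj j).right).Opens) : Set (Spec (F.obj j).right))) (gj ⁻¹ᵁ V).isOpen
    (Set.eq_univ_of_forall fun x => by
      show gj (Spec.map (c.ι.app j).right x) ∈ V
      rw [← Scheme.Hom.comp_apply, hG', Scheme.Hom.comp_apply]
      exact hV.range_fromSpec.le ⟨_, rfl⟩)
  let gk : Spec (F.obj k.unop).right ⟶ X := Spec.map (F.map ψ.unop).right ≫ gj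
  have hr : Set.range gk ⊆ Set.range hV.fromSpec := by
    rintro _ ⟨x, rfl⟩
    rw [hV.range_fromSpec]
    exact Set.eq_univ_iff_forall.mp hk x
  let β := Spec.preimage (IsOpenImmersion.lift hV.fromSpec gk hr)
  have hβ : Spec.map β ≫ hV.fromSpec = gk := by
    rw [Spec.map_preimage, IsOpenImmersion.lift_fac]
  have hw : φ ≫ β = (F.obj k.unop).hom := by
    apply Spec.map_injective
    rw [← cancel_mono hU.fromSpec, Spec.map_comp, Category.assoc,
      IsAffineOpen.SpecMap_appLE_fromSpec f hU hV e, reassoc_of% hβ]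
    rw [Category.assoc, hgj, ← Category.assoc, ← Spec.map_comp, Under.w]
  refine ⟨k.unop, Under.homMk β hw, Under.UnderMorphism.ext ?_⟩
  apply Spec.map_injective
  rw [← cancel_mono hV.fromSpec]
  show Spec.map (β ≫ (c.ι.app k.unop).right) ≫ _ = _
  rw [Spec.map_comp, Category.assoc, hβ, ← hG', ← Category.assoc, ← Spec.map_comp]
  congr 2
  exact congrArg (fun φ => φ.right) (c.w ψ.unop)

end GrothLib.FPCrit
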