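import Groth.Agent.Lib.FPCrit.Basic

/-!
# Every algebra is a directed colimit of finitely presented ones
-/

set_option autoImplicit false
universe u

open CategoryTheory Limits

noncomputable section

namespace GrothLib.FPCrit

variable (A B : Type u) [CommRing A] [CommRing B] [Algebra A B]

/-- The presentation on a finite set of elements. -/
def piE (E : Finset B) : MvPolynomial ↥E A →ₐ[A] B := MvPolynomial.aeval Subtype.val

/-- A finite set of elements and a finitely generated ideal of relations among them. -/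
abbrev FPIndex : Type u := Σ E : Finset B, FgKer (piE A B E)

variable {A B}

/-- The inclusion of polynomial rings. -/
def incl {E E' : Finset B} (h : E ⊆ E') : MvPolynomial ↥E A →ₐ[A] MvPolynomial ↥E' A :=
  MvPolynomial.rename fun a => ⟨a.1, h a.2⟩

theorem piE_incl {E E' : Finset B} (h : E ⊆ E') (x : MvPolynomial ↥E A) :
    piE A B E' (incl h x) = piE A B E x :=
  MvPolynomial.aeval_rename _ _ _

theorem incl_self {E : Finset B} (h : E ⊆ E) (x : MvPolynomial ↥E A) : incl h x = x :=
  MvPolynomial.rename_id_apply x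

theorem incl_incl {E E' E'' : Finset B} (h : E ⊆ E') (h' : E' ⊆ E'') (x : MvPolynomial ↥E A) :
    incl h' (incl h x) = incl (h.trans h') x :=
  MvPolynomial.rename_rename _ _ x

instance : Preorder (FPIndex A B) where
  le S T := ∃ h : S.1 ⊆ T.1, S.2.1 ≤ T.2.1.comap (incl h)
  le_refl S := ⟨subset_rfl, fun x hx => by rw [Ideal.mem_comap, incl_self]; exact hx⟩
  le_trans S T U h h' := ⟨h.1.trans h'.1, fun x hx => by
    rw [Ideal.mem_comap, ← incl_incl h.1 h'.1]
    exact h'.2 (h.2 hx)⟩

theorem map_incl_le {E E' : Finset B} (h : E ⊆ E') {J : Ideal (MvPolynomial ↥E A)}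
    (hJ : J ≤ RingHom.ker (piE A B E)) : J.map (incl h) ≤ RingHom.ker (piE A B E') :=
  Ideal.map_le_iff_le_comap.2 fun x hx => (piE_incl h x).trans (hJ hx)

instance : IsDirected (FPIndex A B) (· ≤ ·) := by
  classical
  exact ⟨fun S T =>
    ⟨⟨S.1 ∪ T.1, ⟨S.2.1.map (incl Finset.subset_union_left) ⊔ T.2.1.map (incl Finset.subset_union_right),
      Submodule.FG.sup (Ideal.FG.map S.2.2.1 _) (Ideal.FG.map T.2.2.1 _),
      sup_le (map_incl_le _ S.2.2.2) (map_incl_le _ T.2.2.2)⟩⟩,
      ⟨Finset.subset_union_left, fun x hx => Ideal.mem_sup_left (Ideal.mem_map_of_mem _ hx)⟩,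
      ⟨Finset.subset_union_right, fun x hx => Ideal.mem_sup_right (Ideal.mem_map_of_mem _ hx)⟩⟩⟩

instance : Nonempty (FPIndex A B) := ⟨⟨∅, ⊥, Submodule.fg_bot, bot_le⟩⟩

variable (A B) in
/-- The finitely presented algebras over `B`, under the base. -/
def fpUnder : FPIndex A B ⥤ Under (CommRingCat.of A) where
  obj S := Under.mk (CommRingCat.ofHom (algebraMap A (MvPolynomial ↥S.1 A ⧸ S.2.1)))
  map {S T} h := Under.homMk (CommRingCat.ofHom
    (Ideal.quotientMap T.2.1 (incl (leOfHom h).1).toRingHom (leOfHom h).2))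
    (CommRingCat.hom_ext (RingHom.ext fun a => congrArg (Ideal.Quotient.mk _)
      ((incl (leOfHom h).1).commutes a)))
  map_id S := Under.UnderMorphism.ext (CommRingCat.hom_ext (Ideal.Quotient.ringHom_ext
    (RingHom.ext fun x => congrArg (Ideal.Quotient.mk _) (incl_self _ x))))
  map_comp f g := Under.UnderMorphism.ext (CommRingCat.hom_ext (Ideal.Quotient.ringHom_ext
    (RingHom.ext fun x => congrArg (Ideal.Quotient.mk _) (incl_incl _ _ x).symm)))

variable (A B) in
/-- The maps to `B`, under the base. -/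
def fpCocone : Cocone (fpUnder A B) where
  pt := Under.mk (CommRingCat.ofHom (algebraMap A B))
  ι := { app := fun S => Under.homMk (CommRingCat.ofHom
          (Ideal.Quotient.lift S.2.1 (piE A B S.1).toRingHom (fun x hx => S.2.2.2 hx)))
          (CommRingCat.hom_ext (RingHom.ext fun a => (piE A B S.1).commutes a))
         naturality := fun S T h => Under.UnderMorphism.ext (CommRingCat.hom_ext
          (Ideal.Quotient.ringHom_ext (RingHom.ext fun x => piE_incl (leOfHom h).1 x))) }

variable (A B) in
/-- `B` is the colimit of these algebras. -/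
def isColimitFpCocone : IsColimit (fpCocone A B) :=
  isColimitUnder (Classical.arbitrary _) _ _ <| by
    let G := fpUnder A B ⋙ Under.forget (CommRingCat.of A)
    haveI := reflectsColimit_of_reflectsIsomorphisms G (forget CommRingCat)
    refine isColimitOfReflects (forget CommRingCat) (Types.FilteredColimit.isColimitOf _ _ (fun b => ?_) ?_)
    · revert b
      intro (b : B)
      exact ⟨⟨{b}, ⊥, Submodule.fg_bot, bot_le⟩,
        Ideal.Quotient.mk _ (MvPolynomial.X ⟨b, Finset.mem_singleton_self b⟩),
        show b = piE A B {b} (MvPolynomial.X ⟨b, Finset.mem_singleton_self b⟩) by simp [piE]⟩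
    · intro S T x y h
      obtain ⟨U, hSU, hTU⟩ := exists_ge_ge S T
      obtain ⟨x, rfl⟩ := Ideal.Quotient.mk_surjective x
      obtain ⟨y, rfl⟩ := Ideal.Quotient.mk_surjective y
      have hxy : incl hSU.1 x - incl hTU.1 y ∈ RingHom.ker (piE A B U.1) := by
        refine (RingHom.sub_mem_ker_iff _).mpr ?_
        rw [piE_incl, piE_incl]
        exact h
      let L : FPIndex A B := ⟨U.1, U.2.1 ⊔ Ideal.span {incl hSU.1 x - incl hTU.1 y},
        Submodule.FG.sup U.2.2.1 (Submodule.fg_span_singleton _),
        sup_le U.2.2.2 ((Ideal.span_singleton_le_iff_mem _).mpr hxy)⟩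
      have hS : S ≤ L := ⟨hSU.1, hSU.2.trans (Ideal.comap_mono le_sup_left)⟩
      have hT : T ≤ L := ⟨hTU.1, hTU.2.trans (Ideal.comap_mono le_sup_left)⟩
      exact ⟨L, homOfLE hS, homOfLE hT,
        Ideal.Quotient.eq.mpr (Ideal.mem_sup_right (Ideal.mem_span_singleton_self _))⟩

theorem finitePresentation_fpUnder (S : FPIndex A B) :
    ((fpUnder A B).obj S).hom.hom.FinitePresentation :=
  RingHom.finitePresentation_algebraMap.2 (Algebra.FinitePresentation.quotient S.2.2.1)

end GrothLib.FPCrit
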